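import Cfsg.Agent.BlocksCyclic.Values
import Cfsg.Agent.BlocksCyclic.Main
import Cfsg.Agent.GaloisAverage.Basic
import Cfsg.Agent.GaloisConj.Basic
import Cfsg.Agent.Characters.Rational
import Cfsg.Agent.S0904
import Cfsg.Agent.S3278
import Cfsg.Agent.SylowPrimePower.Key
import Cfsg.Agent.Small.SylowArgs

/-!
# No simple group of order `3 * r ^ 2 * 2 ^ b`

The Sylow 3-subgroup is self centralizing and inverted, so exactly three irreducible characters are
nonzero on it.  One of them has degree `r`; it is the only one of that degree, hence rational, and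
its restriction to a Sylow `r`-subgroup of order `r ^ 2` has impossible multiplicities.
-/

set_option autoImplicit false
set_option linter.style.haveILetI false
set_option linter.unusedSectionVars false

namespace CfsgLib.OrderThreePrimes

open Cfsg CfsgLib.Blocks CfsgLib.PrincipalBlock
open scoped ComplexConjugate

universe u

variable {G : Type u} [Group G] [Fintype G]

open Classical in
/-- The values on a cyclic subgroup add up to a multiple of its order. -/
theorem sum_pow_eq {χ : G → ℂ} (hχ : Cfsg.IsCharacter G χ) (y : G) :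
    ∃ m : ℕ, ∑ i ∈ Finset.range (orderOf y), χ (y ^ i) = (orderOf y : ℂ) * m := by
  set Y := Subgroup.zpowers y
  haveI := Fintype.ofFinite Y
  obtain ⟨m, hm⟩ := Characters.classInner_characters (G := Y)
    (Characters.isCharacter_restrict Y hχ)
    (Characters.isCharacter_of_isIrr (PrincipalBlock.trivChar Y).2)
  refine ⟨m, ?_⟩
  simp only [Cfsg.classInner, PrincipalBlock.trivChar_apply, map_one, mul_one] at hm
  rw [← hm, show (orderOf y : ℂ) = Nat.card Y by rw [Nat.card_zpowers], ← mul_assoc,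
    mul_inv_cancel₀ Characters.natCard_ne_zero, one_mul,
    ← Fin.sum_univ_eq_sum_range (fun i => χ (y ^ i)) (orderOf y)]
  refine Fintype.sum_equiv (finEquivZPowers (isOfFinOrder_of_finite y)) _ _ fun i => ?_
  rfl

/-- A residue prime to a divisor of `N` lifts to one prime to `N`. -/
theorem exists_coprime_modEq {n N : ℕ} (hn : n ∣ N) (hN : N ≠ 0) {j : ℕ} (hj : j.Coprime n) :
    ∃ k : ℕ, k.Coprime N ∧ k ≡ j [MOD n] := by
  haveI : NeZero N := ⟨hN⟩
  obtain ⟨w, hw⟩ := ZMod.unitsMap_surjective hn (ZMod.unitOfCoprime j hj)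
  refine ⟨(w : ZMod N).val, ZMod.val_coe_unit_coprime w, ?_⟩
  rw [← ZMod.natCast_eq_natCast_iff]
  have h := congrArg Units.val hw
  rw [ZMod.unitsMap_def, Units.coe_map, ZMod.coe_unitOfCoprime] at h
  rw [← h, ZMod.natCast_val]
  rfl

open Classical in
/-- A character of prime degree `r`, constant on coprime powers, not principal, in a simple group:
the Sylow `r`-subgroups do not have order `r ^ 2`. -/
theorem false_of_degree_prime [IsSimpleGroup G] {r : ℕ} (hr : r.Prime) (hr3 : 3 ≤ r)
    (χ : IrrCharacter G) (hd : (χ : G → ℂ) 1 = r)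
    (hne : χ ≠ trivChar G)
    (hgal : ∀ (g : G) (k : ℕ), k.Coprime (Nat.card G) → (χ : G → ℂ) (g ^ k) = (χ : G → ℂ) g)
    (R : Subgroup G) (hR : Nat.card R = r ^ 2) : False := by
  have hch := Characters.isCharacter_of_isIrr χ.2
  have hint : ∀ g, ∃ c : ℤ, (χ : G → ℂ) g = c := by
    intro g
    obtain ⟨q, hq⟩ := Characters.rat_of_pow_invariant hch g (hgal g)
    obtain ⟨c, hc⟩ := GaloisAverage.exists_int_of_isIntegral_ratCast
      (hq ▸ Characters.character_isIntegral hch g : IsIntegral ℤ (q : ℂ))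
    exact ⟨c, hq.trans hc⟩
  have hpow : ∀ (y : G) (i : ℕ), i.Coprime (orderOf y) →
      (χ : G → ℂ) (y ^ i) = (χ : G → ℂ) y := by
    intro y i hi
    obtain ⟨k, hk, hki⟩ := exists_coprime_modEq (orderOf_dvd_natCard y) Nat.card_pos.ne' hi
    rw [show y ^ i = y ^ k from pow_eq_pow_iff_modEq.2 hki.symm, hgal y k hk]
  have hr0 : 0 < r := hr.pos
  -- the value at an element of order `r` is `0`
  have hzero : ∀ y : G, orderOf y = r → (χ : G → ℂ) y = 0 := by
    intro y hy
    obtain ⟨c, hc⟩ := hint y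
    obtain ⟨m, hm⟩ := sum_pow_eq hch y
    have hval : ∀ i ∈ Finset.range (orderOf y),
        (χ : G → ℂ) (y ^ i) = (c : ℂ) + if i = 0 then (r : ℂ) - c else 0 := by
      intro i hi
      by_cases h0 : i = 0
      · simp [h0, hd]
      · rw [if_neg h0, add_zero, ← hc]
        refine hpow y i ?_
        rw [hy, Nat.coprime_comm, hr.coprime_iff_not_dvd]
        intro h
        exact absurd (Nat.le_of_dvd (Nat.pos_of_ne_zero h0) h)
          (not_le.2 (hy ▸ Finset.mem_range.1 hi))
    rw [Finset.sum_congr rfl hval, Finset.sum_add_distrib, Finset.sum_const, Finset.card_range,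
      Finset.sum_ite_eq', if_pos (Finset.mem_range.2 (orderOf_pos y)), hy, nsmul_eq_mul] at hm
    have hm' : (r : ℤ) * c + ((r : ℤ) - c) = r * m := by exact_mod_cast hm
    have hdv : (r : ℤ) ∣ c := ⟨c + 1 - m, by linarith⟩
    obtain ⟨a, rfl⟩ := hdv
    have hle : ((r : ℤ) * a) ≤ r := by
      obtain ⟨n, ρ, -, hρ⟩ := χ.2
      have h1 := Characters.norm_char_le (ρ := ρ) y
      have h2 : (n : ℂ) = r := by
        rw [← hd, ← hρ, Representation.char_one, Module.finrank_fin_fun]
      have h3 : n = r := by exact_mod_cast h2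
      rw [hρ, hc, Module.finrank_fin_fun, h3, Complex.norm_intCast] at h1
      have h4 : ((|((r : ℤ) * a)| : ℤ) : ℝ) ≤ ((r : ℤ) : ℝ) := by push_cast at h1 ⊢; exact h1
      exact (le_abs_self _).trans (by exact_mod_cast h4)
    have ha : a = 0 := by
      rcases lt_trichotomy a 0 with h | h | h
      · exfalso
        have : (0 : ℤ) ≤ r * m := by positivity
        nlinarith
      · exact h
      · exfalso
        have ha1 : a = 1 := by nlinarith
        subst ha1
        have := SylowPrimePower.eq_one_of_apply_eq_degree hne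
          (show (χ : G → ℂ) y = (χ : G → ℂ) 1 by rw [hc, hd]; push_cast; ring)
        rw [this, orderOf_one] at hy
        omega
    rw [hc, ha]
    norm_num
  by_cases hex : ∃ y ∈ R, orderOf y = r ^ 2
  · obtain ⟨y, -, hy⟩ := hex
    obtain ⟨c, hc⟩ := hint y
    have hcard : ((Finset.range (r ^ 2)).filter fun i => r ∣ i) =
        (Finset.range r).image fun a => r * a := by
      ext i
      simp only [Finset.mem_filter, Finset.mem_range, Finset.mem_image]
      constructor
      · rintro ⟨hi, a, rfl⟩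
        exact ⟨a, by rw [pow_two] at hi; exact Nat.lt_of_mul_lt_mul_left hi, rfl⟩
      · rintro ⟨a, ha, rfl⟩
        exact ⟨by rw [pow_two]; exact Nat.mul_lt_mul_of_pos_left ha hr0, dvd_mul_right r a⟩
    have hval : ∀ i ∈ Finset.range (r ^ 2), (χ : G → ℂ) (y ^ i) =
        (c : ℂ) + (if r ∣ i then -(c : ℂ) else 0) + (if i = 0 then (r : ℂ) else 0) := by
      intro i hi
      by_cases h0 : i = 0
      · simp [h0, hd]
      by_cases hd' : r ∣ i
      · rw [if_pos hd', if_neg h0, add_neg_cancel, zero_add]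
        refine hzero _ ?_
        obtain ⟨a, rfl⟩ := hd'
        rw [pow_mul]
        have h1 : orderOf (y ^ r) = r := by
          rw [orderOf_pow' y hr.ne_zero, hy, Nat.gcd_eq_right (dvd_pow_self r two_ne_zero),
            pow_two, Nat.mul_div_cancel _ hr0]
        have ha : ¬ r ∣ a := fun h => by
          have h' := Nat.le_of_dvd (Nat.pos_of_ne_zero h0) (mul_dvd_mul_left r h)
          rw [← pow_two] at h'
          exact absurd h' (not_le.2 (Finset.mem_range.1 hi))
        rw [orderOf_pow, h1,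
          Nat.coprime_iff_gcd_eq_one.1 (hr.coprime_iff_not_dvd.2 ha), Nat.div_one]
      · rw [if_neg hd', if_neg h0, add_zero, add_zero, ← hc]
        refine hpow y i ?_
        rw [hy]
        exact ((hr.coprime_iff_not_dvd.2 hd').symm).pow_right 2
    have hsum : ∀ f : ℂ → ℂ, f 0 = 0 → ∑ i ∈ Finset.range (r ^ 2), f ((χ : G → ℂ) (y ^ i)) =
        ((r : ℂ) ^ 2 - r) * f c + f r := by
      intro f hf
      have hval' : ∀ i ∈ Finset.range (r ^ 2), f ((χ : G → ℂ) (y ^ i)) =
          f c + (if r ∣ i then -f c else 0) + (if i = 0 then f r else 0) := by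
        intro i hi
        rw [hval i hi]
        by_cases h0 : i = 0
        · simp [h0]
        by_cases hd' : r ∣ i
        · simp [h0, hd', hf]
        · simp [h0, hd']
      rw [Finset.sum_congr rfl hval', Finset.sum_add_distrib, Finset.sum_add_distrib,
        ← Finset.sum_filter, hcard, Finset.sum_ite_eq',
        if_pos (Finset.mem_range.2 (pow_pos hr0 2))]
      simp only [Finset.sum_const, Finset.card_range,
        Finset.card_image_of_injective _ (mul_right_injective₀ hr.ne_zero), nsmul_eq_mul]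
      push_cast
      ring
    obtain ⟨m, hm⟩ := sum_pow_eq hch y
    have s1 := hsum id rfl
    simp only [id] at s1
    rw [hy, s1] at hm
    have hch2 : Cfsg.IsCharacter G ((χ : G → ℂ) * fun g => conj ((χ : G → ℂ) g)) :=
      Characters.isCharacter_mul hch (Characters.isCharacter_conj hch)
    obtain ⟨m', hm'⟩ := sum_pow_eq hch2 y
    simp only [Pi.mul_apply] at hm'
    have s2 := hsum (fun z => z * conj z) (by simp)
    rw [hy, s2] at hm'
    simp only [map_intCast, map_natCast] at hm'
    have e1 : ((r : ℤ) ^ 2 - r) * c + r = (r : ℤ) ^ 2 * m := by exact_mod_cast hm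
    have e2 : ((r : ℤ) ^ 2 - r) * (c * c) + r * r = (r : ℤ) ^ 2 * m' := by exact_mod_cast hm'
    have hr0' : (r : ℤ) ≠ 0 := by exact_mod_cast hr.ne_zero
    have f1 : ((r : ℤ) - 1) * c + 1 = r * m := mul_left_cancel₀ hr0' (by linear_combination e1)
    have f2 : ((r : ℤ) - 1) * (c * c) + r = r * m' := mul_left_cancel₀ hr0' (by linear_combination e2)
    have g1 : (r : ℤ) ∣ 1 - c := ⟨m - c, by linear_combination f1⟩
    have g2 : (r : ℤ) ∣ c * c := ⟨c * c + 1 - m', by linear_combination -f2⟩
    have g3 := dvd_add g2 (g1.mul_right (1 + c))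
    rw [show c * c + (1 - c) * (1 + c) = 1 by ring] at g3
    exact hr.one_lt.ne' (Nat.dvd_one.1 (by exact_mod_cast g3))
  · haveI := Fintype.ofFinite R
    obtain ⟨m, hm⟩ := Characters.classInner_characters (G := R)
      (Characters.isCharacter_restrict R hch)
      (Characters.isCharacter_of_isIrr (PrincipalBlock.trivChar R).2)
    simp only [Cfsg.classInner, PrincipalBlock.trivChar_apply, map_one, mul_one] at hm
    rw [Finset.sum_eq_single (1 : R), hR, OneMemClass.coe_one, hd,
      inv_mul_eq_iff_eq_mul₀ (by exact_mod_cast (pow_pos hr0 2).ne')] at hm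
    · have e : r = r ^ 2 * m := by exact_mod_cast hm
      rcases Nat.eq_zero_or_pos m with h | h
      · rw [h, mul_zero] at e
        omega
      · nlinarith
    · intro g _ hg
      refine hzero _ ?_
      have h1 : orderOf (g : G) ∣ r ^ 2 := by
        rw [← hR, Subgroup.orderOf_coe]; exact orderOf_dvd_natCard g
      obtain ⟨i, hi, hi'⟩ := (Nat.dvd_prime_pow hr).1 h1
      rcases i with _ | _ | i
      · exact absurd (Subtype.ext (orderOf_eq_one_iff.1 (by simpa using hi'))) hg
      · simpa using hi'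
      · exact absurd ⟨g, g.2, by rw [hi', show i = 0 by omega]⟩ hex
    · exact fun h => absurd (Finset.mem_univ _) h

open Classical in
/-- No simple group has order `3 * r ^ 2 * 2 ^ b`. -/
theorem false_of_card_three_mul [IsSimpleGroup G] (hna : ¬ IsMulCommutative G) {r b : ℕ}
    (hr : r.Prime) (hr5 : 5 ≤ r) (hG : Nat.card G = 3 * r ^ 2 * 2 ^ b) : False := by
  haveI : Fact (Nat.Prime 3) := ⟨Nat.prime_three⟩
  have hncomm : ∃ a c : G, a * c ≠ c * a := by
    by_contra h
    push Not at h
    exact hna ⟨⟨h⟩⟩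
  have h3r : ¬ 3 ∣ r := fun h => by
    have := (Nat.prime_dvd_prime_iff_eq Nat.prime_three hr).1 h
    omega
  obtain ⟨P⟩ : Nonempty (Sylow 3 G) := inferInstance
  have hnd : ¬ 3 ∣ r ^ 2 * 2 ^ b := fun h => by
    rcases Nat.prime_three.dvd_mul.1 h with h | h
    · exact h3r (Nat.prime_three.dvd_of_dvd_pow h)
    · exact absurd (Nat.prime_three.dvd_of_dvd_pow h) (by norm_num)
  have hP : Nat.card (P : Subgroup G) = 3 := by
    rw [P.card_eq_multiplicity, hG, mul_assoc,
      Nat.factorization_mul (by norm_num) (Nat.mul_pos (pow_pos hr.pos 2) (pow_pos two_pos b)).ne', Finsupp.add_apply,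
      Nat.factorization_eq_zero_of_not_dvd hnd, Nat.Prime.factorization_self Nat.prime_three]
    norm_num
  obtain ⟨x, hxP, hx⟩ := BlocksCyclic.exists_generator hP
  have hxo : orderOf x = 3 := BlocksCyclic.orderOf_generator hP hxP hx
  have hC : Nat.card (Subgroup.centralizer ({x} : Set G)) = 3 := by
    have h0 : Subgroup.centralizer ((P : Subgroup G) : Set G) = (P : Subgroup G) :=
      Cfsg.Agent.S0904.result r 2 3 2 b hr Nat.prime_two (by omega) (by omega) (by norm_num)
        (by rw [hG]; ring) P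
    rw [BlocksCyclic.centralizer_generator hP hxP hx, h0, hP]
  -- `x` is conjugate to its inverse
  have hinv : IsConj x x⁻¹ := by
    have hnle := Small.not_normalizer_le_centralizer hna (p := 3) ⟨r ^ 2 * 2 ^ b, by rw [hG]; ring⟩ P
    obtain ⟨n, hn, hnC⟩ := SetLike.not_le_iff_exists.1 hnle
    refine isConj_iff.2 ⟨n, ?_⟩
    have hmem : n * x * n⁻¹ ∈ (P : Subgroup G) := (Subgroup.mem_normalizer_iff.1 hn x).1 hxP
    rw [← BlocksCyclic.zpowers_generator hP hxP hx,
      (isOfFinOrder_of_finite x).mem_zpowers_iff_mem_range_orderOf, hxo] at hmem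
    simp only [Finset.mem_image, Finset.mem_range] at hmem
    obtain ⟨i, hi, he⟩ := hmem
    interval_cases i
    · rw [pow_zero] at he
      exact absurd (conj_eq_one_iff.1 he.symm) hx
    · rw [pow_one] at he
      refine absurd (?_ : n ∈ Subgroup.centralizer ((P : Subgroup G) : Set G)) hnC
      rw [← BlocksCyclic.centralizer_generator hP hxP hx, Subgroup.mem_centralizer_singleton_iff]
      calc n * x = n * x * n⁻¹ * n := by group
        _ = x * n := by rw [← he]
    · rw [← he]
      refine eq_inv_of_mul_eq_one_left ?_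
      rw [← pow_succ]
      show x ^ 3 = 1; exact (congrArg (x ^ ·) hxo).symm.trans (pow_orderOf_eq_one x)
  have hconj : ∀ χ : IrrCharacter G, conj ((χ : G → ℂ) x) = (χ : G → ℂ) x := fun χ => by
    rw [← Characters.character_inv (Characters.isCharacter_of_isIrr χ.2)]
    exact (Characters.classFunction_isConj (Characters.isClassFunction_of_isIrr χ.2) hinv).symm
  -- the values at `x` are integers
  have hn : ∀ χ : IrrCharacter G, ∃ n : ℤ, (χ : G → ℂ) x = n ∧
      (3 : ℤ) ∣ (Cfsg.charDegree (χ : G → ℂ) : ℤ) - n := by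
    intro χ
    have hch := Characters.isCharacter_of_isIrr χ.2
    obtain ⟨m, hm⟩ := sum_pow_eq hch x
    rw [hxo] at hm
    simp only [Finset.sum_range_succ, Finset.sum_range_zero, zero_add, pow_zero, pow_one] at hm
    rw [show x ^ 2 = x⁻¹ from eq_inv_of_mul_eq_one_left (by rw [← pow_succ]; show x ^ 3 = 1; exact (congrArg (x ^ ·) hxo).symm.trans (pow_orderOf_eq_one x)),
      Characters.character_inv hch, hconj, ← charDegree_cast] at hm
    set d := Cfsg.charDegree (χ : G → ℂ)
    have hq : (χ : G → ℂ) x = ((((3 * m : ℤ) - d) / 2 : ℚ) : ℂ) := by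
      push_cast at hm ⊢
      linear_combination hm / 2
    obtain ⟨n, hn⟩ := GaloisAverage.exists_int_of_isIntegral_ratCast
      (hq ▸ Characters.character_isIntegral hch x)
    refine ⟨n, hq.trans hn, ?_⟩
    rw [hq.trans hn] at hm
    have h' : (d : ℤ) + n + n = 3 * m := by
      push_cast at hm
      exact_mod_cast hm
    omega
  choose n hnx hn3 using hn
  set d : IrrCharacter G → ℕ := fun χ => Cfsg.charDegree (χ : G → ℂ) with hd
  have hn3' : ∀ χ, (3 : ℤ) ∣ (d χ : ℤ) - n χ := hn3
  -- the two column relations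
  have hsq : ∑ χ : IrrCharacter G, n χ ^ 2 = 3 := by
    have h := Characters.sum_irr_mul_conj_of_isConj (IsConj.refl x)
    rw [hC, Finset.sum_congr rfl (g := fun χ => ((n χ ^ 2 : ℤ) : ℂ)) fun χ _ => by
      rw [hconj, hnx, Int.cast_pow, sq]] at h
    exact_mod_cast h
  have hlin : ∑ χ : IrrCharacter G, n χ * (d χ : ℤ) = 0 := by
    have h := Characters.sum_degree_mul x
    rw [if_neg hx, Finset.sum_congr rfl (g := fun χ => ((n χ * (d χ : ℤ) : ℤ) : ℂ)) fun χ _ => by
      rw [hnx, ← charDegree_cast, Int.cast_mul, Int.cast_natCast, mul_comm]] at h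
    exact_mod_cast h
  have hn1 : ∀ χ, n χ = 0 ∨ n χ = 1 ∨ n χ = -1 := fun χ => by
    have h := Finset.single_le_sum (f := fun χ => n χ ^ 2) (fun _ _ => sq_nonneg _)
      (Finset.mem_univ χ)
    rw [hsq] at h
    have h1 : n χ < 2 := by nlinarith
    have h2 : -2 < n χ := by nlinarith
    omega
  set S := Finset.univ.filter fun χ : IrrCharacter G => n χ ≠ 0 with hS
  have hScard : S.card = 3 := by
    have : ∑ χ : IrrCharacter G, n χ ^ 2 = ∑ χ ∈ S, (1 : ℤ) := by
      rw [hS, Finset.sum_filter]
      refine Finset.sum_congr rfl fun χ _ => ?_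
      rcases hn1 χ with h | h | h <;> simp [h]
    rw [hsq, Finset.sum_const, nsmul_eq_mul, mul_one] at this
    exact_mod_cast this.symm
  have hnt : n (trivChar G) = 1 := by
    have := hnx (trivChar G)
    rw [PrincipalBlock.trivChar_apply] at this
    exact_mod_cast this.symm
  have hdt : d (trivChar G) = 1 := by
    have := (charDegree_cast (trivChar G))
    rw [PrincipalBlock.trivChar_apply] at this
    exact_mod_cast this
  obtain ⟨χ₁, χ₂, h12, hS2⟩ := Finset.card_eq_two.1 (show (S.erase (trivChar G)).card = 2 by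
    rw [Finset.card_erase_of_mem (by simp [hS, hnt]), hScard])
  have hSeq : S = {trivChar G, χ₁, χ₂} := by
    rw [← Finset.insert_erase (show trivChar G ∈ S by simp [hS, hnt]), hS2]
  have hn12 : n χ₁ ≠ 0 ∧ n χ₂ ≠ 0 ∧ χ₁ ≠ trivChar G ∧ χ₂ ≠ trivChar G := by
    have a1 : χ₁ ∈ S.erase (trivChar G) := by rw [hS2]; simp
    have a2 : χ₂ ∈ S.erase (trivChar G) := by rw [hS2]; simp
    simp only [hS, Finset.mem_erase, Finset.mem_filter] at a1 a2
    exact ⟨a1.2.2, a2.2.2, a1.1, a2.1⟩
  have hrel : 1 + n χ₁ * d χ₁ + n χ₂ * d χ₂ = 0 := by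
    rw [← hlin, ← Finset.sum_subset (Finset.subset_univ S) fun χ _ hχ => by
      simp [show n χ = 0 by simpa [hS] using hχ], hSeq,
      Finset.sum_insert (by simp [Ne.symm hn12.2.2.1, Ne.symm hn12.2.2.2]),
      Finset.sum_pair h12, hnt, hdt]
    push_cast
    ring
  -- degrees
  have hdvd : ∀ χ, d χ ∣ 3 * r ^ 2 * 2 ^ b := fun χ => hG ▸ charDegree_dvd_card χ
  have hd1 : ∀ χ : IrrCharacter G, χ ≠ trivChar G → d χ ≠ 1 := fun χ hχ h => hχ (Subtype.ext (by
    refine (Cfsg.Agent.S3278.degree_ne_one hncomm χ ?_).trans (funext fun _ => rfl)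
    rw [← charDegree_cast]
    exact_mod_cast h))
  -- the odd nonvanishing degree is `r`
  have key : ∀ χ ψ : IrrCharacter G, χ ≠ trivChar G → ψ ≠ trivChar G → n χ ≠ 0 → n ψ ≠ 0 →
      1 + n χ * d χ + n ψ * d ψ = 0 → ¬ 2 ∣ d χ → d χ = r := by
    intro χ ψ hχ hψ hnχ hnψ hrel hodd
    have a3 : ¬ 3 ∣ d χ := fun h => by
      have := hn3' χ
      rcases hn1 χ with e | e | e <;> omega
    have a4 : ¬ 3 ∣ d ψ := fun h => by
      have := hn3' ψ
      rcases hn1 ψ with e | e | e <;> omega
    have b1 : d χ ∣ r ^ 2 := by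
      have c1 : (d χ).Coprime 3 := (Nat.prime_three.coprime_iff_not_dvd.2 a3).symm
      have c2 : (d χ).Coprime (2 ^ b) :=
        ((Nat.prime_two.coprime_iff_not_dvd.2 hodd).symm).pow_right b
      exact c1.dvd_of_dvd_mul_left (c2.dvd_of_dvd_mul_right (hdvd χ))
    obtain ⟨j, hj, hdj⟩ := (Nat.dvd_prime_pow hr).1 b1
    rcases j with _ | _ | j
    · exact absurd (by simpa using hdj) (hd1 χ hχ)
    · simpa using hdj
    · exfalso
      obtain rfl : j = 0 := by omega
      simp only [zero_add, Nat.reduceAdd] at hdj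
      have hr2 : r ^ 2 % 3 = 1 ∧ r ^ 2 % 8 = 1 := by
        have e2 : r % 2 = 1 := Nat.odd_iff.1 (hr.odd_of_ne_two (by omega))
        have e3 : r % 3 = 1 ∨ r % 3 = 2 := by omega
        have e8 : r % 8 = 1 ∨ r % 8 = 3 ∨ r % 8 = 5 ∨ r % 8 = 7 := by omega
        constructor
        · rw [Nat.pow_mod]; rcases e3 with e | e <;> rw [e]
        · rw [Nat.pow_mod]; rcases e8 with e | e | e | e <;> rw [e]
      have hpos : 25 ≤ r ^ 2 := by nlinarith
      rw [hdj] at hrel
      have hχn : n χ = 1 := by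
        have := hn3' χ
        rw [hdj] at this
        rcases hn1 χ with e | e | e <;> omega
      have hψn : n ψ = -1 := by
        rcases hn1 ψ with e | e | e
        · exact absurd e hnψ
        · exfalso
          rw [hχn, e] at hrel
          omega
        · exact e
      have hdψ : d ψ = r ^ 2 + 1 := by
        rw [hχn, hψn] at hrel
        omega
      have c1 : (d ψ).Coprime 3 := (Nat.prime_three.coprime_iff_not_dvd.2 a4).symm
      have c2 : (d ψ).Coprime (r ^ 2) := by
        rw [hdψ]; exact Nat.coprime_self_add_left.2 (Nat.coprime_one_left _)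
      have b2 : d ψ ∣ 2 ^ b := by
        have := hdvd ψ
        rw [mul_assoc] at this
        exact c2.dvd_of_dvd_mul_left (c1.dvd_of_dvd_mul_left this)
      obtain ⟨i, -, hi⟩ := (Nat.dvd_prime_pow Nat.prime_two).1 b2
      rcases i with _ | _ | i
      · rw [pow_zero] at hi; omega
      · rw [pow_one] at hi; omega
      · have : 4 ∣ d ψ := ⟨2 ^ i, by rw [hi]; ring⟩
        omega
  obtain ⟨χ, hχne, hdχ⟩ : ∃ χ, χ ≠ trivChar G ∧ d χ = r := by
    rcases Nat.even_or_odd (d χ₁) with h | h
    · refine ⟨χ₂, hn12.2.2.2, key χ₂ χ₁ hn12.2.2.2 hn12.2.2.1 hn12.2.1 hn12.1 (by linarith) ?_⟩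
      intro h2
      obtain ⟨k, hk⟩ := h
      rcases hn1 χ₁ with e | e | e <;> rcases hn1 χ₂ with e' | e' | e' <;>
        rw [e, e'] at hrel <;> omega
    · exact ⟨χ₁, hn12.2.2.1, key χ₁ χ₂ hn12.2.2.1 hn12.2.2.2 hn12.1 hn12.2.1 hrel
        (fun h2 => by obtain ⟨k, hk⟩ := h; omega)⟩
  have huniq : ∀ ψ : IrrCharacter G, d ψ = r → ψ = χ := by
    have hin : ∀ ψ : IrrCharacter G, d ψ = r → ψ ∈ S ∧ ψ ≠ trivChar G := by
      intro ψ hψ
      refine ⟨Finset.mem_filter.2 ⟨Finset.mem_univ _, fun h => ?_⟩, fun h => ?_⟩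
      · have := hn3' ψ
        rw [h, hψ] at this
        omega
      · rw [h, hdt] at hψ
        omega
    intro ψ hψ
    by_contra hne
    have m1 := hin ψ hψ
    have m2 := hin χ hdχ
    rw [hSeq] at m1 m2
    simp only [Finset.mem_insert, Finset.mem_singleton] at m1 m2
    have : d χ₁ = r ∧ d χ₂ = r := by
      rcases m1.1.resolve_left m1.2 with e | e <;> rcases m2.1.resolve_left m2.2 with e' | e' <;>
        subst e <;> subst e' <;> first | exact absurd rfl hne | exact ⟨hψ, hdχ⟩ | exact ⟨hdχ, hψ⟩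
    have e2 : r % 2 = 1 := Nat.odd_iff.1 (hr.odd_of_ne_two (by omega))
    rw [this.1, this.2] at hrel
    rcases hn1 χ₁ with e | e | e <;> rcases hn1 χ₂ with e' | e' | e' <;>
      rw [e, e'] at hrel <;> omega
  haveI : Fact r.Prime := ⟨hr⟩
  obtain ⟨R⟩ : Nonempty (Sylow r G) := inferInstance
  have hnr : ¬ r ∣ 3 * 2 ^ b := fun h => by
    rcases hr.dvd_mul.1 h with h | h
    · have := (Nat.prime_dvd_prime_iff_eq hr Nat.prime_three).1 h; omega
    · have := (Nat.prime_dvd_prime_iff_eq hr Nat.prime_two).1 (hr.dvd_of_dvd_pow h); omega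
  have hR : Nat.card (R : Subgroup G) = r ^ 2 := by
    rw [R.card_eq_multiplicity, hG, show 3 * r ^ 2 * 2 ^ b = r ^ 2 * (3 * 2 ^ b) by ring,
      Nat.factorization_mul (pow_pos hr.pos 2).ne' (Nat.mul_pos three_pos (pow_pos two_pos b)).ne',
      Finsupp.add_apply, Nat.factorization_eq_zero_of_not_dvd hnr, hr.factorization_pow]
    simp
  have hχ1 : (χ : G → ℂ) 1 = r := by rw [← charDegree_cast, ← hdχ]
  refine false_of_degree_prime hr (by omega) χ hχ1 hχne (fun g k hk => ?_) (R : Subgroup G) hR
  have := huniq ⟨_, GaloisConj.isIrrCharacter_pow χ.2 hk⟩ (by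
    have h := charDegree_cast
      (⟨_, GaloisConj.isIrrCharacter_pow χ.2 hk⟩ : IrrCharacter G)
    simp only [one_pow, hχ1] at h
    exact_mod_cast h)
  exact congrFun (congrArg Subtype.val this) g

end CfsgLib.OrderThreePrimes
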