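import Cfsg.Agent.BlocksLocal.KleinOrder
import Cfsg.Agent.S0948
import Cfsg.Agent.S0992
import Cfsg.Agent.S3278
import Cfsg.Agent.SylowPrimePower.Key

/-!
# Simple groups of order `4 * 3 ^ x * r ^ y`

The degrees `u`, `v`, `w` (with signs) in the principal 2-block satisfy `1 + u + v + w = 0`, and by
the order formula `1 + u`, `1 + v`, `1 + w` have no prime divisors outside `2, 3, r`; hence one of
them is `-3`.  A character of degree 3 forces the centralizer of an involution to have order 4.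
-/

set_option autoImplicit false
set_option linter.style.haveILetI false
set_option linter.unusedSectionVars false

namespace CfsgLib.OrderThreePrimes

open Cfsg CfsgLib.Blocks CfsgLib.BlocksLocal CfsgLib.PrincipalBlock

universe u

/-- A signed degree: `1 mod 4`, not `1`, and with `a * (1 + a)` smooth. -/
def GoodDeg (r : ℕ) (a : ℤ) : Prop :=
  (4 : ℤ) ∣ a - 1 ∧ a ≠ 1 ∧ ∀ s : ℕ, s.Prime → (s : ℤ) ∣ a * (1 + a) → s = 2 ∨ s = 3 ∨ s = r

theorem GoodDeg.kind {r : ℕ} {a : ℤ} (h : GoodDeg r a) :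
    ((3 : ℤ) ∣ a → a ≠ -3 → (r : ℤ) ∣ 1 + a) ∧
      (¬ (3 : ℤ) ∣ a → (r : ℤ) ∣ a ∧ (3 : ℤ) ∣ 1 + a) := by
  obtain ⟨h4, h1, hs⟩ := h
  have hb2 : ¬ 4 ∣ (1 + a).natAbs := fun h => by
    have : (4 : ℤ) ∣ 1 + a := Int.natCast_dvd.2 h
    omega
  have hb0 : (1 + a).natAbs ≠ 0 := fun h => hb2 (h ▸ dvd_zero 4)
  have htwo : (∀ s : ℕ, s.Prime → (s : ℤ) ∣ 1 + a → s = 2) → (1 + a).natAbs ≤ 2 := by
    intro h
    obtain ⟨k, hk⟩ : ∃ k, (1 + a).natAbs = 2 ^ k :=
      ⟨_, Nat.eq_prime_pow_of_unique_prime_dvd hb0 fun {s} hsp hd => h s hsp (Int.natCast_dvd.2 hd)⟩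
    rcases k with _ | _ | k
    · rw [hk]; norm_num
    · rw [hk]; norm_num
    · exact absurd ⟨2 ^ k, by rw [hk, pow_succ, pow_succ]; ring⟩ hb2
  have hcop : ∀ s : ℕ, s.Prime → (s : ℤ) ∣ a → (s : ℤ) ∣ 1 + a → False := fun s hsp h1' h2' => by
    have h3 : (s : ℤ) ∣ 1 := by simpa using dvd_sub h2' h1'
    exact hsp.one_lt.ne' (Nat.dvd_one.1 (by exact_mod_cast h3))
  constructor
  · intro h3 hne
    by_contra hr
    have := htwo fun s hsp hd => by
      rcases hs s hsp (hd.mul_left a) with h | h | h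
      · exact h
      · exact (hcop s hsp (h ▸ (by exact_mod_cast h3)) hd).elim
      · exact absurd (h ▸ hd) hr
    omega
  · intro h3
    have hra : (r : ℤ) ∣ a := by
      obtain ⟨s, hsp, hd⟩ := Nat.exists_prime_and_dvd (n := a.natAbs) (fun e => by omega)
      have hd' : (s : ℤ) ∣ a := Int.natCast_dvd.2 hd
      rcases hs s hsp (hd'.mul_right _) with h | h | h
      · subst h
        omega
      · subst h
        exact absurd (by exact_mod_cast hd') h3
      · exact h ▸ hd'
    refine ⟨hra, ?_⟩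
    by_contra h3'
    have := htwo fun s hsp hd => by
      rcases hs s hsp (hd.mul_left a) with h | h | h
      · exact h
      · subst h
        exact absurd (by exact_mod_cast hd) h3'
      · exact (hcop s hsp (h ▸ hra) hd).elim
    omega

/-- Three good signed degrees with `1 + u + v + w = 0` include `-3`. -/
theorem exists_eq_neg_three {r : ℕ} (hr : r.Prime) {u v w : ℤ} (hu : GoodDeg r u)
    (hv : GoodDeg r v) (hw : GoodDeg r w) (h : 1 + u + v + w = 0) :
    u = -3 ∨ v = -3 ∨ w = -3 := by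
  by_contra hne
  push Not at hne
  have hr1 : ¬ (r : ℤ) ∣ 1 := fun h1 => hr.one_lt.ne' (Nat.dvd_one.1 (by exact_mod_cast h1))
  obtain ⟨u3, u3'⟩ := hu.kind
  obtain ⟨v3, v3'⟩ := hv.kind
  obtain ⟨w3, w3'⟩ := hw.kind
  by_cases a : (3 : ℤ) ∣ u <;> by_cases b : (3 : ℤ) ∣ v <;> by_cases c : (3 : ℤ) ∣ w
  · omega
  · refine hr1 ?_
    have := dvd_add (dvd_add (u3 a hne.1) (v3 b hne.2.1)) (w3' c).1
    rwa [show (1 + u) + (1 + v) + w = 1 by omega] at this
  · refine hr1 ?_
    have := dvd_add (dvd_add (u3 a hne.1) (v3' b).1) (w3 c hne.2.2)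
    rwa [show (1 + u) + v + (1 + w) = 1 by omega] at this
  · have h1 := (v3' b).2; have h2 := (w3' c).2; omega
  · refine hr1 ?_
    have := dvd_add (dvd_add (u3' a).1 (v3 b hne.2.1)) (w3 c hne.2.2)
    rwa [show u + (1 + v) + (1 + w) = 1 by omega] at this
  · have h1 := (u3' a).2; have h2 := (w3' c).2; omega
  · have h1 := (u3' a).2; have h2 := (v3' b).2; omega
  · refine hr1 ?_
    have := dvd_add (dvd_add (u3' a).1 (v3' b).1) (w3' c).1
    have h' := dvd_neg.2 this
    rwa [show -(u + v + w) = 1 by omega] at h'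

variable {G : Type u} [Group G] [Fintype G]

open Classical in
/-- A principal block character is constant on `J k`, `k` of odd order in `C(J)`. -/
theorem apply_mul_odd {M : Ideal AlgInt} (hM : Cfsg.IsPModular 2 M) (P : Sylow 2 G)
    (hP : IsKleinFour (P : Subgroup G)) {J : G} (hJ : J ∈ (P : Subgroup G)) (hJ1 : J ≠ 1)
    {χ : IrrCharacter G} (hχ : χ ∈ Cfsg.principalBlock M G) {k : G}
    (hk : k ∈ Subgroup.centralizer ({J} : Set G)) (hodd : ¬ 2 ∣ orderOf k) :
    (χ : G → ℂ) (J * k) = (χ : G → ℂ) J := by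
  haveI : Fact (Nat.Prime 2) := ⟨Nat.prime_two⟩
  haveI : M.IsPrime := Blocks.IsPModular.isPrime hM
  obtain ⟨-, K, hKn, hK, hKi⟩ := KleinOrder.exists_complement_centralizer P hP hJ hJ1
  haveI := hKn
  haveI := Fintype.ofFinite (Subgroup.centralizer ({J} : Set G))
  have hx : ∃ n, orderOf J = 2 ^ n := ⟨1, by
    rw [pow_one]
    exact orderOf_eq_prime (by rw [pow_two]; exact CfsgLib.Small.kleinFour_mul_self hP hJ) hJ1⟩
  set y : Subgroup.centralizer ({J} : Set G) := ⟨k, hk⟩ with hy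
  have hyo : ¬ 2 ∣ orderOf y := by rw [← Subgroup.orderOf_coe]; exact hodd
  have hyK : y ∈ K := by
    rw [← QuotientGroup.eq_one_iff, ← orderOf_eq_one_iff]
    refine Nat.eq_one_of_dvd_coprimes
      ((Nat.prime_two.coprime_iff_not_dvd.2 hyo).symm.pow_right 2)
      (orderOf_map_dvd (QuotientGroup.mk' K) y) ?_
    rw [show (2 : ℕ) ^ 2 = K.index by rw [hKi]; norm_num]
    exact orderOf_dvd_natCard _
  have h1 := blockPart_principal_translate hM (x := J) hx χ (y := 1)
    (by rw [orderOf_one]; norm_num)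
  have h2 := blockPart_principal_translate hM (x := J) hx χ (y := y) hyo
  rw [if_pos hχ, blockPart_eq_sum _
    (isClassFunction_translate (χ : G → ℂ) (Characters.isClassFunction_of_isIrr χ.2) J)] at h1 h2
  simp only [OneMemClass.coe_one, mul_one] at h1
  rw [show J * k = J * (y : G) from rfl, ← h1, ← h2]
  refine Fintype.sum_equiv (Equiv.mulRight y) _ _ fun c => ?_
  simp only [Equiv.coe_mulRight]
  congr 1
  have hc0 : (Nat.card (Subgroup.centralizer ({J} : Set G)) : ℂ) ≠ 0 :=
    Nat.cast_ne_zero.2 Nat.card_pos.ne'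
  refine mul_left_cancel₀ hc0 ?_
  rw [blockCoeff_principal_of_normal_complement hM K hK ⟨2, by rw [hKi]; norm_num⟩,
    blockCoeff_principal_of_normal_complement hM K hK ⟨2, by rw [hKi]; norm_num⟩]
  congr 1
  simp only [Set.indicator_apply, SetLike.mem_coe]
  exact if_congr (K.mul_mem_cancel_right hyK).symm rfl rfl

open Classical in
/-- A faithful representation of degree 3 with traces `-1` on the involutions of `P` and on their
products with odd elements of their centralizers: `C(J) = P`. -/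
theorem centralizer_eq_of_degree_three [IsSimpleGroup G] {M : Ideal AlgInt}
    (hM : Cfsg.IsPModular 2 M) (P : Sylow 2 G) (hP : IsKleinFour (P : Subgroup G))
    {J : G} (hJ : J ∈ (P : Subgroup G)) (hJ1 : J ≠ 1) {χ : IrrCharacter G}
    (hB : χ ∈ Cfsg.principalBlock M G) (h3 : (χ : G → ℂ) 1 = 3)
    (hval : ∀ v ∈ (P : Subgroup G), v ≠ 1 → (χ : G → ℂ) v = -1) :
    Subgroup.centralizer ({J} : Set G) = (P : Subgroup G) := by
  haveI : Fact (Nat.Prime 2) := ⟨Nat.prime_two⟩
  have hne : χ ≠ trivChar G := fun e => by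
    rw [e] at h3
    simp [trivChar] at h3
  have hfaith : ∀ y : G, (χ : G → ℂ) y = 3 → y = 1 := fun y hy =>
    SylowPrimePower.eq_one_of_apply_eq_degree hne (hy.trans h3.symm)
  obtain ⟨n, ρ, hρ, hχ⟩ := χ.2
  haveI := hρ
  have htr : ∀ g, LinearMap.trace ℂ _ (ρ g) = (χ : G → ℂ) g := fun g => by rw [← hχ]; rfl
  haveI := Fintype.ofFinite (P : Subgroup G)
  have hP4 : Fintype.card (P : Subgroup G) = 4 := by
    rw [← Nat.card_eq_fintype_card]; exact hP.card_four
  -- the average over `P` is zero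
  set E : Module.End ℂ (Fin n → ℂ) := (4 : ℂ)⁻¹ • ∑ v : (P : Subgroup G), ρ (v : G) with hE
  have hsum : ∀ v : (P : Subgroup G), ρ (v : G) * (∑ w : (P : Subgroup G), ρ (w : G)) =
      ∑ w : (P : Subgroup G), ρ (w : G) := fun v => by
    rw [Finset.mul_sum]
    refine Fintype.sum_equiv (Equiv.mulLeft v) _ _ fun w => ?_
    rw [← map_mul]; rfl
  have hEi : IsIdempotentElem E := by
    show E * E = E
    rw [hE, smul_mul_smul_comm, Finset.sum_mul, Finset.sum_congr rfl fun v _ => hsum v,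
      Finset.sum_const, Finset.card_univ, hP4, ← Nat.cast_smul_eq_nsmul ℂ, smul_smul]
    congr 1
    norm_num
  have hEt : LinearMap.trace ℂ _ E = 0 := by
    rw [hE, map_smul, map_sum, ← Finset.add_sum_erase _ _ (Finset.mem_univ (1 : (P : Subgroup G))),
      Finset.sum_congr rfl (g := fun _ => (-1 : ℂ)) fun v hv => by
        rw [htr, hval v v.2 fun e => (Finset.mem_erase.1 hv).1 (Subtype.ext e)],
      Finset.sum_const, Finset.card_erase_of_mem (Finset.mem_univ _), Finset.card_univ, hP4, htr,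
      OneMemClass.coe_one, h3]
    norm_num
  have hE0 : ∑ v : (P : Subgroup G), ρ (v : G) = 0 := by
    have hproj := (LinearMap.isProj_range_iff_isIdempotentElem _).2 hEi
    have ht := hproj.trace
    rw [hEt] at ht
    have hf : Module.finrank ℂ (LinearMap.range E) = 0 := by exact_mod_cast ht.symm
    rw [Submodule.finrank_eq_zero, LinearMap.range_eq_bot, hE] at hf
    exact (smul_eq_zero.1 hf).resolve_left (by norm_num)
  -- elements of odd order centralizing `P` are trivial
  have hCP : ∀ k : G, ¬ 2 ∣ orderOf k → (∀ v ∈ (P : Subgroup G), v * k = k * v) → k = 1 := by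
    intro k hk hc
    have h := congrArg (fun T : Module.End ℂ (Fin n → ℂ) => LinearMap.trace ℂ _ (T * ρ k)) hE0
    simp only [Finset.sum_mul, zero_mul, map_zero, map_sum, ← map_mul, htr] at h
    rw [← Finset.add_sum_erase _ _ (Finset.mem_univ (1 : (P : Subgroup G))),
      Finset.sum_congr rfl (g := fun _ => (-1 : ℂ)) fun v hv => by
        have hv1 : (v : G) ≠ 1 := fun e => (Finset.mem_erase.1 hv).1 (Subtype.ext e)
        rw [apply_mul_odd hM P hP v.2 hv1 hB
          (Subgroup.mem_centralizer_singleton_iff.2 (hc v v.2).symm) hk, hval v v.2 hv1],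
      Finset.sum_const, Finset.card_erase_of_mem (Finset.mem_univ _), Finset.card_univ, hP4,
      OneMemClass.coe_one, one_mul] at h
    refine hfaith k ?_
    norm_num at h
    linear_combination h
  -- the line fixed by `J`
  have hJJ : J * J = 1 := CfsgLib.Small.kleinFour_mul_self hP hJ
  set e : Module.End ℂ (Fin n → ℂ) := (2 : ℂ)⁻¹ • (1 + ρ J) with he
  have hei : IsIdempotentElem e := by
    show e * e = e
    rw [he, smul_mul_smul_comm]
    have : ((1 : Module.End ℂ (Fin n → ℂ)) + ρ J) * (1 + ρ J) = (2 : ℂ) • (1 + ρ J) := by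
      rw [mul_add, add_mul, add_mul, ← map_mul, hJJ, map_one, one_mul, one_mul, mul_one, two_smul]
      abel
    rw [this, smul_smul]
    congr 1
    norm_num
  have het : LinearMap.trace ℂ _ e = 1 := by
    rw [he, map_smul, map_add, ← map_one ρ, htr, htr, h3, hval J hJ hJ1]
    norm_num
  have hrank : Module.finrank ℂ (LinearMap.range e) = 1 := by
    have := ((LinearMap.isProj_range_iff_isIdempotentElem _).2 hei).trace
    rw [het] at this
    exact_mod_cast this.symm
  obtain ⟨v₀, hv₀, hspan⟩ := finrank_eq_one_iff'.1 hrank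
  set C := Subgroup.centralizer ({J} : Set G) with hC
  have hcomm : ∀ g ∈ C, ρ g * e = e * ρ g := by
    intro g hg
    have hgJ : g * J = J * g := Subgroup.mem_centralizer_singleton_iff.1 hg
    rw [he, mul_smul_comm, smul_mul_assoc, mul_add, add_mul, mul_one, one_mul, ← map_mul,
      ← map_mul, hgJ]
  have hscal : ∀ g ∈ C, ∃ a : ℂ, ρ g * e = a • e := by
    intro g hg
    have hmem : ∀ x, ρ g (e x) ∈ LinearMap.range e := fun x =>
      ⟨ρ g x, (LinearMap.congr_fun (hcomm g hg) x).symm⟩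
    obtain ⟨y, hy⟩ := v₀.2
    obtain ⟨a, ha⟩ := hspan ⟨_, hmem y⟩
    refine ⟨a, LinearMap.ext fun x => ?_⟩
    obtain ⟨b, hb⟩ := hspan ⟨e x, LinearMap.mem_range_self e x⟩
    have ha' : a • (v₀ : Fin n → ℂ) = ρ g (e y) := congrArg Subtype.val ha
    have hb' : b • (v₀ : Fin n → ℂ) = e x := congrArg Subtype.val hb
    rw [hy] at ha'
    show ρ g (e x) = a • e x
    rw [← hb', map_smul, ← ha', smul_comm]
  choose a ha using hscal
  have hmul : ∀ g (hg : g ∈ C) h (hh : h ∈ C), a (g * h) (mul_mem hg hh) = a g hg * a h hh := by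
    intro g hg h hh
    have h1 : a (g * h) (mul_mem hg hh) • e = (a g hg * a h hh) • e := by
      rw [← ha, map_mul, mul_assoc, ha h hh, mul_smul_comm, ha g hg, smul_smul, mul_comm]
    have := congrArg (LinearMap.trace ℂ _) h1
    simpa [map_smul, het] using this
  have htrace : ∀ g (hg : g ∈ C), 2 * a g hg = (χ : G → ℂ) g + (χ : G → ℂ) (J * g) := by
    intro g hg
    have h1 := congrArg (LinearMap.trace ℂ _) (ha g hg)
    rw [hcomm g hg, he, smul_mul_assoc, add_mul, one_mul, ← map_mul, map_smul, map_add, htr, htr,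
      ← he, map_smul, het] at h1
    simp only [smul_eq_mul, mul_one] at h1
    linear_combination -2 * h1
  have ha1 : ∀ (h1 : (1 : G) ∈ C), a 1 h1 = 1 := by
    intro h1
    have := htrace 1 h1
    rw [h3, mul_one, hval J hJ hJ1] at this
    linear_combination this / 2
  -- odd elements of `C` are trivial
  obtain ⟨hPC, K, hKn, hK, hKi⟩ := KleinOrder.exists_complement_centralizer P hP hJ hJ1
  have hKbot : K = ⊥ := by
    rw [Subgroup.eq_bot_iff_forall]
    intro k hk
    have hodd : ∀ x ∈ K, ¬ 2 ∣ orderOf (x : G) := fun x hx h => hK (h.trans (by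
      rw [Subgroup.orderOf_coe, ← Subgroup.orderOf_mk x hx]
      exact orderOf_dvd_natCard _))
    refine Subtype.ext (hCP k (hodd k hk) fun v hv => ?_)
    set c : C := ⟨v, hPC hv⟩ * k * ⟨v, hPC hv⟩⁻¹ * k⁻¹ with hc
    have hcK : c ∈ K := mul_mem (hKn.conj_mem k hk _) (inv_mem hk)
    have hcv : (c : G) = v * k * v⁻¹ * (k : G)⁻¹ := rfl
    have hca : a (c : G) c.2 = 1 := by
      have e1 : a v (hPC hv) * a k k.2 = a (v * k) (mul_mem (hPC hv) k.2) := (hmul _ _ _ _).symm
      have e2 : a (c : G) c.2 * a k k.2 * a v (hPC hv) = a (v * k) (mul_mem (hPC hv) k.2) := by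
        rw [← hmul _ _ _ _, ← hmul _ _ _ _]
        congr 1
        rw [hcv]; group
      rw [← e1] at e2
      have hne0 : a k k.2 * a v (hPC hv) ≠ 0 := by
        intro h0
        have hi := hmul (k * v) (mul_mem k.2 (hPC hv)) (k * v : G)⁻¹
          (inv_mem (mul_mem k.2 (hPC hv)))
        rw [hmul k k.2 v (hPC hv), h0, zero_mul] at hi
        have := ha1 C.one_mem
        simp only [mul_inv_cancel] at hi
        rw [hi] at this
        exact zero_ne_one this
      refine mul_right_cancel₀ hne0 ?_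
      rw [one_mul, ← mul_assoc, e2, mul_comm]
    have h1 := htrace _ c.2
    rw [hca, apply_mul_odd hM P hP hJ hJ1 hB c.2 (hodd c hcK), hval J hJ hJ1] at h1
    have hc1 : (c : G) = 1 := hfaith _ (by linear_combination -h1)
    rw [hcv] at hc1
    exact mul_inv_eq_iff_eq_mul.1 (mul_inv_eq_one.1 hc1)
  refine (Subgroup.eq_of_le_of_card_ge hPC ?_).symm
  show Nat.card C ≤ _
  rw [← Subgroup.card_mul_index K, hKi, hKbot, Subgroup.card_bot, hP.card_four]

open Classical in
/-- A non-abelian simple group whose order is `4` times an odd number with at most two odd prime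
divisors, one of them `3`, is `A₅`. -/
theorem nonempty_alt_five [IsSimpleGroup G] (hna : ¬ IsMulCommutative G) (r : ℕ) (hr : r.Prime)
    (h4 : 4 ∣ Nat.card G) (h8 : ¬ 8 ∣ Nat.card G)
    (hprimes : ∀ s : ℕ, s.Prime → s ∣ Nat.card G → s = 2 ∨ s = 3 ∨ s = r) :
    Nonempty (G ≃* ↥(alternatingGroup (Fin 5))) := by
  haveI : Fact (Nat.Prime 2) := ⟨Nat.prime_two⟩
  obtain ⟨P⟩ : Nonempty (Sylow 2 G) := inferInstance
  have hP := (Cfsg.Agent.S0992.result hna (even_iff_two_dvd.2 (dvd_trans (by norm_num) h4)) h8 P).1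
  obtain ⟨g₀, hg₀⟩ := h4
  have hg₀o : Odd g₀ := by
    rcases Nat.even_or_odd g₀ with ⟨k, hk⟩ | h
    · exact absurd ⟨k, by rw [hg₀, hk]; ring⟩ h8
    · exact h
  have hone := (KleinOrder.kleinFour_and_one_class g₀ hg₀o hg₀ (by
    rintro ⟨N, hN, hc⟩
    rcases IsSimpleGroup.eq_bot_or_eq_top_of_normal N hN with h | h
    · rw [h, Subgroup.card_bot] at hc
      refine hna ?_
      haveI := hP.isMulCommutative
      have htop : (P : Subgroup G) = ⊤ :=
        Subgroup.eq_top_of_card_eq _ (by rw [hP.card_four, hg₀, ← hc])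
      exact ⟨⟨fun x y => CfsgLib.Small.kleinFour_comm hP (htop ▸ Subgroup.mem_top x)
        (htop ▸ Subgroup.mem_top y)⟩⟩
    · rw [h, Subgroup.card_top, hg₀] at hc
      have := hg₀o.pos
      omega) P).2
  obtain ⟨M, hM⟩ := Blocks.exists_isPModular 2 Nat.prime_two
  haveI : M.IsPrime := Blocks.IsPModular.isPrime hM
  obtain ⟨z₂, z₃, z₄, ε, hε, n2, n3, n23, n24, n34, hB, hval, d2, d3, d4, hrel⟩ :=
    Cfsg.Agent.S0948.result M hM P hP hone
  have n4 : (z₄ : G → ℂ) ≠ fun _ => 1 := by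
    intro e
    obtain ⟨t, ht⟩ := exists_prime_orderOf_dvd_card' 2 (G := G) ⟨2 * g₀, by rw [hg₀]; ring⟩
    have h1 := (hval t ht).2.2
    rw [e] at h1
    norm_num at h1
  obtain ⟨J, hJ, hJ1⟩ : ∃ J ∈ (P : Subgroup G), J ≠ 1 := by
    by_contra hcon
    push Not at hcon
    have h := hP.card_four
    rw [show (P : Subgroup G) = ⊥ from (Subgroup.eq_bot_iff_forall _).2 hcon,
      Subgroup.card_bot] at h
    omega
  have hord : ∀ v ∈ (P : Subgroup G), v ≠ 1 → orderOf v = 2 := fun v hv hv1 =>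
    orderOf_eq_prime (by rw [pow_two]; exact CfsgLib.Small.kleinFour_mul_self hP hv) hv1
  set x₂ := Cfsg.charDegree (z₂ : G → ℂ)
  set x₃ := Cfsg.charDegree (z₃ : G → ℂ)
  set x₄ := Cfsg.charDegree (z₄ : G → ℂ)
  set U : ℤ := (x₂ : ℤ) with hU
  set V : ℤ := ε * x₃ with hV
  set W : ℤ := -(x₄ : ℤ) with hW
  have hdeg1 : ∀ z : IrrCharacter G, (z : G → ℂ) ≠ (fun _ => 1) →
      Cfsg.charDegree (z : G → ℂ) ≠ 1 := fun z hz h => hz (by
    refine Cfsg.Agent.S3278.degree_ne_one ?_ z ?_
    · by_contra hc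
      push Not at hc
      exact hna ⟨⟨hc⟩⟩
    · rw [← charDegree_cast, h, Nat.cast_one])
  have hsum : 1 + U + V + W = 0 := by
    have h := hrel 1 (by rw [orderOf_one]; exact odd_one)
    rw [← charDegree_cast, ← charDegree_cast, ← charDegree_cast] at h
    apply Int.cast_injective (α := ℂ)
    rw [hU, hV, hW]
    push_cast
    linear_combination h
  obtain ⟨hz2, hz3, hz4⟩ := hval J (hord J hJ hJ1)
  have hform := KleinOrder.eight_mul_card_cube P hM hP hone hJ (hord J hJ hJ1)
  rw [KleinOrder.sum_four z₂ z₃ z₄ hB n2 n3 n4 n23 n24 n34] at hform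
  simp only [trivChar, hz2, hz3, hz4] at hform
  simp only [← charDegree_cast, one_pow, div_one] at hform
  rw [show Cfsg.charDegree (z₂ : G → ℂ) = x₂ from rfl,
    show Cfsg.charDegree (z₃ : G → ℂ) = x₃ from rfl,
    show Cfsg.charDegree (z₄ : G → ℂ) = x₄ from rfl] at hform
  set c := Nat.card (Subgroup.centralizer ({J} : Set G))
  set cP := Nat.card (Subgroup.centralizer ((P : Subgroup G) : Set G))
  have hx : ∀ z : IrrCharacter G, (Cfsg.charDegree (z : G → ℂ) : ℂ) ≠ 0 := fun z =>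
    Nat.cast_ne_zero.2 (charDegree_ne_zero z)
  have hεc : (ε : ℂ) ^ 2 = 1 := by rcases hε with rfl | rfl <;> norm_num
  have hprod : 8 * (c : ℤ) ^ 3 * (U * V * W) =
      (Nat.card G : ℤ) * (cP : ℤ) ^ 2 * ((1 + U) * (1 + V) * (1 + W)) := by
    apply Int.cast_injective (α := ℂ)
    have hs : (1 : ℂ) + x₂ + ε * x₃ - x₄ = 0 := by
      have := congrArg (fun z : ℤ => (z : ℂ)) hsum
      simp only [hU, hV, hW] at this
      push_cast at this
      linear_combination this
    have a2 : (x₂ : ℂ) ≠ 0 := hx z₂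
    have a3 : (x₃ : ℂ) ≠ 0 := hx z₃
    have a4 : (x₄ : ℂ) ≠ 0 := hx z₄
    rw [hU, hV, hW]
    push_cast
    rw [hform, mul_assoc]
    congr 1
    field_simp
    linear_combination (-1 : ℂ) * hs +
      ((x₂ : ℂ) * x₄ * (-(ε : ℂ) ^ 2 - 1)) * hεc
  have hsm : ∀ s : ℕ, s.Prime → ¬ (s = 2 ∨ s = 3 ∨ s = r) →
      ¬ (s : ℤ) ∣ U * V * W ∧ ¬ (s : ℤ) ∣ 8 * (c : ℤ) ^ 3 := by
    intro s hs hne
    have hnd : ∀ m : ℕ, m ∣ Nat.card G → ¬ (s : ℤ) ∣ (m : ℤ) := fun m hm h =>
      hne (hprimes s hs (dvd_trans (by exact_mod_cast h) hm))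
    have hp' : Prime (s : ℤ) := Nat.prime_iff_prime_int.1 hs
    refine ⟨fun h => ?_, fun h => ?_⟩
    · rcases hp'.dvd_or_dvd h with h | h
      · rcases hp'.dvd_or_dvd h with h | h
        · exact hnd _ (charDegree_dvd_card z₂) h
        · rcases hp'.dvd_or_dvd h with h | h
          · refine hp'.not_unit (isUnit_of_dvd_unit h ?_)
            rcases hε with rfl | rfl
            exacts [isUnit_one, isUnit_one.neg]
          · exact hnd _ (charDegree_dvd_card z₃) h
      · exact hnd _ (charDegree_dvd_card z₄) (dvd_neg.1 h)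
    · rcases hp'.dvd_or_dvd h with h | h
      · have h8' : s ∣ 2 ^ 3 := by exact_mod_cast h
        exact hne (Or.inl ((Nat.prime_dvd_prime_iff_eq hs Nat.prime_two).1
          (hs.dvd_of_dvd_pow h8')))
      · exact hnd _ (Subgroup.card_subgroup_dvd_card _) (hp'.dvd_of_dvd_pow h)
  have hgood : ∀ a : ℤ, (4 : ℤ) ∣ a - 1 → a ≠ 1 → a ∣ U * V * W →
      (1 + a) ∣ (1 + U) * (1 + V) * (1 + W) → GoodDeg r a := by
    intro a h4a h1a hdvd hdvd'
    refine ⟨h4a, h1a, fun s hs hd => ?_⟩
    by_contra hne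
    obtain ⟨e1, e2⟩ := hsm s hs hne
    rcases (Nat.prime_iff_prime_int.1 hs).dvd_or_dvd hd with h | h
    · exact e1 (h.trans hdvd)
    · have h' := (h.trans hdvd').mul_left ((Nat.card G : ℤ) * (cP : ℤ) ^ 2)
      rw [← hprod] at h'
      rcases (Nat.prime_iff_prime_int.1 hs).dvd_or_dvd h' with h | h
      exacts [e2 h, e1 h]
  have hgU : GoodDeg r U := hgood U d2
    (fun h => hdeg1 z₂ n2 (by rw [hU] at h; exact_mod_cast h)) ⟨V * W, by ring⟩ ⟨(1 + V) * (1 + W), by ring⟩
  have hgV : GoodDeg r V := hgood V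
    (by
      have : V - 1 = ε * ((x₃ : ℤ) - ε) := by
        rw [hV]; rcases hε with rfl | rfl <;> ring
      rw [this]; exact d3.mul_left ε)
    (fun h => hdeg1 z₃ n3 (by
      rcases hε with e | e <;> rw [hV, e] at h <;> omega))
    ⟨U * W, by ring⟩ ⟨(1 + U) * (1 + W), by ring⟩
  have hgW : GoodDeg r W := hgood W
    (by
      rw [show W - 1 = -((x₄ : ℤ) + 1) by rw [hW]; ring]
      exact d4.neg_right)
    (fun h => by rw [hW] at h; omega) ⟨U * V, by ring⟩ ⟨(1 + U) * (1 + V), by ring⟩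
  have hres : ∀ z : IrrCharacter G, z ∈ Cfsg.principalBlock M G →
      Cfsg.charDegree (z : G → ℂ) = 3 → (∀ v : G, orderOf v = 2 → (z : G → ℂ) v = -1) →
      Nonempty (G ≃* ↥(alternatingGroup (Fin 5))) := by
    intro z hz hz3' hzv
    have hC := centralizer_eq_of_degree_three hM P hP hJ hJ1 hz
      (by rw [← charDegree_cast, hz3']; norm_num) fun v hv hv1 => hzv v (hord v hv hv1)
    refine Cfsg.Agent.S3278.result J (hord J hJ hJ1) (P : Subgroup G) hC.ge hP ?_ ?_
    · rw [hC, Subgroup.relIndex_self]; norm_num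
    · rw [hC, Subgroup.subgroupOf_self]; infer_instance
  rcases exists_eq_neg_three hr hgU hgV hgW hsum with h | h | h
  · rw [hU] at h; omega
  · rcases hε with e | e
    · rw [hV, e] at h; omega
    · refine hres z₃ (by rw [hB]; simp) (by rw [hV, e] at h; omega) fun v hv => ?_
      rw [(hval v hv).2.1, e]; norm_num
  · refine hres z₄ (by rw [hB]; simp) (by rw [hW] at h; omega) fun v hv => (hval v hv).2.2

end CfsgLib.OrderThreePrimes
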